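import Mathlib

/-!
Functorial termwise injective enlargements of complexes.
-/

universe v u

open CategoryTheory CategoryTheory.Limits HomologicalComplex
open scoped ZeroObject

namespace Groth.Agent.FunInj

variable {A : Type u} [Category.{v} A] [Abelian A]

section cocone

variable {J Q : CochainComplex A ℤ} (q : J ⟶ Q)

/-- the component `Jⁱ → Qᵏ` for `i = k` -/
noncomputable def qTo (i k : ℤ) : J.X i ⟶ Q.X k :=
  if h : i = k then (J.XIsoOfEq h).hom ≫ q.f k else 0

theorem qTo_self (i : ℤ) : qTo q i i = q.f i := by simp [qTo]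

theorem qTo_eq (i k : ℤ) (h : i = k) : qTo q i k = (J.XIsoOfEq h).hom ≫ q.f k := dif_pos h

theorem qTo_eq' (i k : ℤ) (h : i = k) : qTo q i k = q.f i ≫ (Q.XIsoOfEq h).hom := by
  subst h; simp [qTo_self]

theorem qTo_zero (i k : ℤ) (h : i ≠ k) : qTo q i k = 0 := dif_neg h

theorem qTo_comm (i j l m : ℤ) (hi : i = l) (hj : j = m) :
    J.d i j ≫ qTo q j m = qTo q i l ≫ Q.d l m := by
  subst hi hj
  rw [qTo_self, qTo_self, q.comm]

/-- the cocone of `q` -/
noncomputable def cocone : CochainComplex A ℤ where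
  X n := J.X n ⊞ Q.X (n - 1)
  d i j := biprod.desc (biprod.lift (J.d i j) (qTo q i (j - 1)))
    (biprod.lift 0 (-Q.d (i - 1) (j - 1)))
  shape i j h := by
    have h' : ¬ (i + 1 = j) := h
    apply biprod.hom_ext' <;> apply biprod.hom_ext <;>
      simp [J.shape i j h, qTo_zero q i (j - 1) (by omega),
        Q.shape (i - 1) (j - 1) (show ¬ (i - 1 + 1 = j - 1) by omega)]
  d_comp_d' i j k hij hjk := by
    have hij' : i + 1 = j := hij
    have hjk' : j + 1 = k := hjk
    apply biprod.hom_ext' <;> apply biprod.hom_ext <;>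
      simp [qTo_comm q i j (j - 1) (k - 1) (by omega) (by omega)]

variable {q}

/-- functoriality -/
noncomputable def coconeMap {J' Q' : CochainComplex A ℤ} {q' : J' ⟶ Q'} (a : J ⟶ J') (b : Q ⟶ Q')
    (h : a ≫ q' = q ≫ b) : cocone q ⟶ cocone q' where
  f n := biprod.map (a.f n) (b.f (n - 1))
  comm' i j hij := by
    have hij' : i + 1 = j := hij
    have e : a.f i ≫ qTo q' i (j - 1) = qTo q i (j - 1) ≫ b.f (j - 1) := by
      obtain ⟨k, hk⟩ : ∃ k, k = j - 1 := ⟨_, rfl⟩
      rw [← hk]
      obtain rfl : i = k := by omega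
      rw [qTo_self, qTo_self, ← comp_f, ← comp_f, h]
    apply biprod.hom_ext' <;> apply biprod.hom_ext <;>
      simp [cocone, a.comm, b.comm, e]

/-- the map to the cocone -/
noncomputable def toCocone {M : CochainComplex A ℤ} (u : M ⟶ J) (w : u ≫ q = 0) : M ⟶ cocone q where
  f n := u.f n ≫ biprod.inl
  comm' i j hij := by
    have hij' : i + 1 = j := hij
    have e : u.f i ≫ qTo q i (j - 1) = 0 := by
      obtain ⟨k, hk⟩ : ∃ k, k = j - 1 := ⟨_, rfl⟩
      rw [← hk]
      obtain rfl : i = k := by omega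
      rw [qTo_self, ← comp_f, w]
      rfl
    apply biprod.hom_ext <;> simp [cocone, e, u.comm]

theorem split_eq {W S T U : A} (p : W ⟶ S ⊞ T) (e : W ⟶ U) (α : U ⟶ S) (β : U ⟶ T)
    (h : p ≫ biprod.snd = e ≫ β) :
    p = (p ≫ biprod.fst - e ≫ α) ≫ biprod.inl + e ≫ biprod.lift α β := by
  apply biprod.hom_ext <;> simp [h]

theorem quasiIso_toCocone {M : CochainComplex A ℤ} (u : M ⟶ J) (w : u ≫ q = 0)
    (hS : (ShortComplex.mk u q w).ShortExact) : QuasiIso (toCocone u w) := by
  have hp : ∀ n, ((ShortComplex.mk u q w).map (eval A (ComplexShape.up ℤ) n)).ShortExact :=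
    fun n => hS.map_of_exact _
  refine ⟨fun p => ?_⟩
  obtain ⟨m, rfl⟩ : ∃ m, p = m + 1 := ⟨p - 1, by omega⟩
  rw [quasiIsoAt_iff_isIso_homologyMap]
  haveI : ∀ n, Mono (u.f n) := fun n => (hp n).mono_f
  haveI : ∀ n, Epi (q.f n) := fun n => (hp n).epi_g
  refine @isIso_of_mono_of_epi _ _ _ _ _ _
    ((mono_homologyMap_iff_up_to_refinements (toCocone u w) m (m + 1) (m + 1 + 1) (by simp) (by simp)).2
      fun W x hx y hy => ?_)
    ((epi_homologyMap_iff_up_to_refinements (toCocone u w) m (m + 1) (m + 1 + 1) (by simp) (by simp)).2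
      fun W z hz => ?_)
  · change W ⟶ J.X m ⊞ Q.X (m - 1) at y
    have h1 := congrArg (fun t => t ≫ (biprod.fst : J.X (m + 1) ⊞ Q.X (m + 1 - 1) ⟶ _)) hy
    have h2 := congrArg (fun t => t ≫ (biprod.snd : J.X (m + 1) ⊞ Q.X (m + 1 - 1) ⟶ _)) hy
    simp [toCocone, cocone, biprod.desc_eq] at h1 h2
    obtain ⟨W₁, π₁, _, f, hf⟩ := surjective_up_to_refinements_of_epi (q.f (m - 1)) (y ≫ biprod.snd)
    let e := π₁ ≫ y ≫ biprod.fst - f ≫ J.d (m - 1) m
    have he : e ≫ q.f m = 0 := by
      rw [← cancel_mono (Q.XIsoOfEq (show m = m + 1 - 1 by omega)).hom]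
      simp only [e, Preadditive.sub_comp, Category.assoc, zero_comp]
      rw [← reassoc_of% (q.comm (m - 1) m), ← reassoc_of% hf]
      simp only [HomologicalComplex.d_comp_XIsoOfEq_hom]
      have h3 : q.f m ≫ (Q.XIsoOfEq (show m = m + 1 - 1 by omega)).hom = qTo q m (m + 1 - 1) := by
        exact (qTo_eq' q m (m + 1 - 1) (by omega)).symm
      rw [h3]
      have := congrArg (π₁ ≫ ·) h2
      simp [Preadditive.comp_add] at this
      simp only [sub_eq_add_neg, Preadditive.neg_comp, neg_neg] at this ⊢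
      first | exact this | exact this.symm
    haveI := (hp m).mono_f
    let y' : W₁ ⟶ M.X m := (hp m).exact.lift e he
    have hy' : y' ≫ u.f m = e := (hp m).exact.lift_f e he
    refine ⟨W₁, π₁, inferInstance, y', ?_⟩
    rw [← cancel_mono (u.f (m + 1)), Category.assoc, Category.assoc, ← u.comm, reassoc_of% hy']
    simp [e, h1]
  · change W ⟶ J.X (m + 1) ⊞ Q.X (m + 1 - 1) at z
    have h1 := congrArg (fun t => t ≫ (biprod.snd : J.X (m + 1 + 1) ⊞ Q.X (m + 1 + 1 - 1) ⟶ _)) hz
    replace h1 := h1.trans zero_comp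
    simp [cocone, biprod.desc_eq] at h1
    haveI : Epi (qTo q m (m + 1 - 1)) := by rw [qTo_eq' q m (m + 1 - 1) (by omega)]; infer_instance
    obtain ⟨W₁, π₁, _, e, he⟩ := surjective_up_to_refinements_of_epi (qTo q m (m + 1 - 1))
      (z ≫ biprod.snd)
    let a := π₁ ≫ z ≫ biprod.fst - e ≫ J.d m (m + 1)
    have ha : a ≫ q.f (m + 1) = 0 := by
      rw [← cancel_mono (Q.XIsoOfEq (show m + 1 = m + 1 + 1 - 1 by omega)).hom]
      have h3 : q.f (m + 1) ≫ (Q.XIsoOfEq (show m + 1 = m + 1 + 1 - 1 by omega)).hom =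
          qTo q (m + 1) (m + 1 + 1 - 1) :=
        (qTo_eq' q (m + 1) (m + 1 + 1 - 1) (by omega)).symm
      simp only [a, Preadditive.sub_comp, Category.assoc, zero_comp, h3]
      rw [qTo_comm q m (m + 1) (m + 1 - 1) (m + 1 + 1 - 1) (by omega) (by omega),
        ← reassoc_of% he]
      have := congrArg (π₁ ≫ ·) h1
      simp [Preadditive.comp_add] at this
      simp only [sub_eq_add_neg, Preadditive.neg_comp, neg_neg] at this ⊢
      first | exact this | exact this.symm
    haveI := (hp (m + 1)).mono_f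
    let x : W₁ ⟶ M.X (m + 1) := (hp (m + 1)).exact.lift a ha
    have hx : x ≫ u.f (m + 1) = a := (hp (m + 1)).exact.lift_f a ha
    refine ⟨W₁, π₁, inferInstance, x, ?_, e ≫ biprod.inl, ?_⟩
    · rw [← cancel_mono (u.f (m + 1 + 1)), Category.assoc, ← u.comm, reassoc_of% hx, zero_comp]
      have h0 := congrArg (fun t => t ≫ (biprod.fst : J.X (m + 1 + 1) ⊞ Q.X (m + 1 + 1 - 1) ⟶ _)) hz
      replace h0 := h0.trans zero_comp
      simp [cocone, biprod.desc_eq] at h0
      simp [a, h0]
    · show (π₁ ≫ z : W₁ ⟶ J.X (m + 1) ⊞ Q.X (m + 1 - 1)) = x ≫ u.f (m + 1) ≫ biprod.inl +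
        (e ≫ biprod.inl) ≫ biprod.desc (biprod.lift (J.d m (m + 1)) (qTo q m (m + 1 - 1)))
          (biprod.lift 0 (-Q.d (m - 1) (m + 1 - 1)))
      rw [← Category.assoc x, hx]
      refine (split_eq (π₁ ≫ z) e (J.d m (m + 1)) (qTo q m (m + 1 - 1))
        ((Category.assoc _ _ _).trans he)).trans ?_
      simp only [a, Category.assoc, biprod.inl_desc]
      rfl

end cocone

section functor

variable (I : A ⥤ A) (ι : 𝟭 A ⟶ I)

/-- the complex `n ↦ I(Mⁿ) ⊞ I(Mⁿ⁺¹)` -/
noncomputable def cofree : CochainComplex A ℤ ⥤ CochainComplex A ℤ where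
  obj M := CochainComplex.of (fun n => I.obj (M.X n) ⊞ I.obj (M.X (n + 1)))
    (fun n => biprod.snd ≫ biprod.inl) (fun n => by simp)
  map {M N} f := CochainComplex.ofHom
    (fun n => biprod.map (I.map (f.f n)) (I.map (f.f (n + 1)))) (fun n => by
      simp [CochainComplex.of_d])
  map_id M := by ext n : 1; apply biprod.hom_ext' <;> simp
  map_comp f g := by ext n : 1; apply biprod.hom_ext' <;> simp

/-- the embedding into the cofree complex -/
noncomputable def toCofree : 𝟭 (CochainComplex A ℤ) ⟶ cofree I where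
  app M := CochainComplex.ofHom
    (fun n => biprod.lift (ι.app (M.X n)) (M.d n (n + 1) ≫ ι.app (M.X (n + 1)))) (fun n => by
      simp only [cofree, CochainComplex.of_d]
      apply biprod.hom_ext <;> simp [CochainComplex.of_d])
  naturality {M N} f := by
    ext n : 1
    apply biprod.hom_ext
    · simp [cofree, ι.naturality (f.f n)]
      exact ι.naturality (f.f n)
    · simp [cofree]
      exact congrArg (M.d n (n + 1) ≫ ·) (ι.naturality (f.f (n + 1)))

variable [∀ X, Mono (ι.app X)]

instance mono_toCofree_f (M : CochainComplex A ℤ) (n : ℤ) : Mono (((toCofree I ι).app M).f n) :=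
  haveI : Mono (((toCofree I ι).app M).f n ≫ biprod.fst) := by
    show Mono (biprod.lift (ι.app (M.X n)) (M.d n (n + 1) ≫ ι.app (M.X (n + 1))) ≫ biprod.fst)
    rw [biprod.lift_fst]
    exact (inferInstance : Mono (ι.app (M.X n)))
  mono_of_mono (((toCofree I ι).app M).f n) biprod.fst

/-- map induced on cokernels -/
noncomputable def qMap {M N : CochainComplex A ℤ} (f : M ⟶ N) :
    cokernel ((toCofree I ι).app M) ⟶ cokernel ((toCofree I ι).app N) :=
  cokernel.map _ _ f ((cofree I).map f) ((toCofree I ι).naturality f).symm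

theorem qMap_id (M : CochainComplex A ℤ) : qMap I ι (𝟙 M) = 𝟙 _ := by
  apply coequalizer.hom_ext; simp [qMap]

theorem qMap_comp {M N O : CochainComplex A ℤ} (f : M ⟶ N) (g : N ⟶ O) :
    qMap I ι (f ≫ g) = qMap I ι f ≫ qMap I ι g := by
  apply coequalizer.hom_ext; simp [qMap]

/-- the functor -/
noncomputable def hullFunctor : CochainComplex A ℤ ⥤ CochainComplex A ℤ where
  obj M := cocone (cokernel.π ((toCofree I ι).app M))
  map {M N} f := coconeMap ((cofree I).map f) (qMap I ι f) (cokernel.π_desc _ _ _).symm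
  map_id M := by
    ext n : 1
    apply biprod.hom_ext' <;> simp [coconeMap, cocone, qMap_id] <;> rfl
  map_comp {M N O} f g := by
    ext n : 1
    apply biprod.hom_ext' <;> simp [coconeMap, cocone, qMap_comp]

/-- the natural map -/
noncomputable def toHull : 𝟭 (CochainComplex A ℤ) ⟶ hullFunctor I ι where
  app M := toCocone ((toCofree I ι).app M) (cokernel.condition _)
  naturality {M N} f := by
    ext n : 1
    have h := congr_hom ((toCofree I ι).naturality f) n
    simp only [comp_f, Functor.id_map] at h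
    simp [toCocone, hullFunctor, coconeMap]
    refine ((reassoc_of% h) _).trans ?_
    exact congrArg (_ ≫ ·) (biprod.inl_map _ _).symm

theorem toHull_spec (hI : ∀ X, Injective (I.obj X)) (M : CochainComplex A ℤ) :
    (∀ n : ℤ, Mono (((toHull I ι).app M).f n)) ∧ QuasiIso ((toHull I ι).app M) ∧
      ∀ n : ℤ, ∃ (J : A) (_ : Injective J) (a : M.X n ⟶ J) (b : J ⟶ ((hullFunctor I ι).obj M).X n),
        Mono b ∧ a ≫ b = ((toHull I ι).app M).f n := by
  haveI : Mono ((toCofree I ι).app M) := mono_of_mono_f _ inferInstance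
  have hS : (ShortComplex.mk ((toCofree I ι).app M) (cokernel.π _) (cokernel.condition _)).ShortExact :=
    { exact := ShortComplex.exact_cokernel _ }
  refine ⟨fun n => ?_, quasiIso_toCocone _ _ hS, fun n => ?_⟩
  · show Mono (((toCofree I ι).app M).f n ≫ biprod.inl)
    infer_instance
  · haveI : Injective (I.obj (M.X n)) := hI _
    haveI : Injective (I.obj (M.X (n + 1))) := hI _
    exact ⟨I.obj (M.X n) ⊞ I.obj (M.X (n + 1)), inferInstance, ((toCofree I ι).app M).f n,
      biprod.inl, inferInstanceAs (Mono (biprod.inl : I.obj (M.X n) ⊞ I.obj (M.X (n + 1)) ⟶ _)), rfl⟩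

end functor

/-- functorial injective embeddings in a Grothendieck abelian category -/
theorem exists_functorial_injective [IsGrothendieckAbelian.{v} A] :
    ∃ (I : A ⥤ A) (ι : 𝟭 A ⟶ I), (∀ X, Mono (ι.app X)) ∧ ∀ X, Injective (I.obj X) := by
  let d := MorphismProperty.functorialFactorizationData (MorphismProperty.monomorphisms A)
    (MorphismProperty.monomorphisms A).rlp
  let Z : A ⥤ Arrow A :=
    { obj := fun X => Arrow.mk (0 : X ⟶ (⊥_ A))
      map := fun f => Arrow.homMk f (𝟙 _) }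
  refine ⟨Z ⋙ d.Z, { app := fun X => d.i.app (Z.obj X)
                     naturality := fun X Y f => d.i.naturality (Z.map f) },
    fun X => d.hi (Z.obj X), fun X => ?_⟩
  have hp := d.hp (Z.obj X)
  have hz : IsZero (⊥_ A) := isZero_zero A |>.of_iso
    (initialIsInitial.uniqueUpToIso (isZero_zero A).isInitial)
  have e : Arrow.mk (d.p.app (Z.obj X)) ≅ Arrow.mk (0 : (d.Z.obj (Z.obj X)) ⟶ (0 : A)) :=
    Arrow.isoMk (Iso.refl _) (hz.iso (isZero_zero A)) ((isZero_zero A).eq_of_tgt _ _)
  rw [injective_iff_rlp_monomorphisms_zero]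
  exact ((MorphismProperty.monomorphisms A).rlp.arrow_mk_iso_iff e).1 hp

end Groth.Agent.FunInj
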