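import Groth.Agent.FunInj.InvSys
import Groth.Agent.CxRes.Dual

/-!
Special direct systems of left resolutions of the truncations of a complex.
-/

universe v u

open CategoryTheory CategoryTheory.Limits HomologicalComplex Opposite
open scoped ZeroObject

namespace Groth.Agent.FunInj

variable {A : Type u} [Category.{v} A] [Abelian A]

theorem exists_inverseSystem' (I : ObjectProperty A) [I.IsClosedUnderIsomorphisms] (hI0 : ∃ Z : A, IsZero Z ∧ I Z)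
    (hIprod : ∀ X Y : A, I X → I Y → I (X ⊞ Y))
    (hI : ∀ X : A, ∃ (Y : A) (ι : X ⟶ Y), I Y ∧ Mono ι)
    (T : ℕ → CochainComplex A ℤ) (q : ∀ n, T (n + 1) ⟶ T n) (hT : ∀ n, ∃ a : ℤ, (T n).IsStrictlyGE a) :
    ∃ (Q : ℕ → CochainComplex A ℤ) (p : ∀ n, Q (n + 1) ⟶ Q n) (π : ∀ n : ℕ, T n ⟶ Q n),
      (∀ n, QuasiIso (π n) ∧ ∀ i, Mono ((π n).f i)) ∧ (∀ n, ∃ a : ℤ, (Q n).IsStrictlyGE a) ∧
      (∀ n i, I ((Q n).X i)) ∧
      (∀ n i, (∃ s : (Q n).X i ⟶ (Q (n + 1)).X i, s ≫ (p n).f i = 𝟙 _) ∧ I (kernel ((p n).f i))) ∧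
      (∀ n : ℕ, π (n + 1) ≫ p n = q n ≫ π n) := by
  classical
  let St := fun n : ℕ => { X : Σ Q : CochainComplex A ℤ, (T n ⟶ Q) //
    QuasiIso X.2 ∧ (∀ i, Mono (X.2.f i)) ∧ (∃ a : ℤ, X.1.IsStrictlyGE a) ∧ ∀ i, I (X.1.X i) }
  obtain ⟨a₀, _⟩ := hT 0
  obtain ⟨R₀, e₀, hR₀a, hR₀, hm₀, hq₀⟩ := CxRes.exists_resolution I hI0 hI (T 0) a₀
  have hstep : ∀ n (s : St n), ∃ (t : St (n + 1)) (p : t.1.1 ⟶ s.1.1),
      (∀ i, (∃ σ : s.1.1.X i ⟶ t.1.1.X i, σ ≫ p.f i = 𝟙 _) ∧ I (kernel (p.f i))) ∧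
      t.1.2 ≫ p = q n ≫ s.1.2 := by
    rintro n ⟨⟨N, π⟩, -, -, hb, hN⟩
    obtain ⟨a, _⟩ := hT (n + 1)
    obtain ⟨N', p, π', h1, h2, h3, h4, h5, h6⟩ := exists_step' I hI0 hIprod hI a (q n ≫ π) hb hN
    exact ⟨⟨⟨N', π'⟩, h2, h3, h4, h5⟩, p, h6, h1⟩
  choose next p hp hc using hstep
  let s : ∀ n, St n := fun n =>
    Nat.rec (motive := St) ⟨⟨R₀, e₀⟩, hq₀, hm₀, ⟨_, hR₀a⟩, hR₀⟩ next n
  exact ⟨fun n => (s n).1.1, fun n => p n (s n), fun n => (s n).1.2,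
    fun n => ⟨(s n).2.1, (s n).2.2.1⟩, fun n => (s n).2.2.2.1, fun n => (s n).2.2.2.2,
    fun n => hp n (s n), fun n => hc n (s n)⟩

theorem isIso_ιTruncLE_f (K : CochainComplex A ℤ) (a i : ℤ) (hi : i < a) :
    IsIso ((K.ιTruncLE a).f i) := by
  let e := ComplexShape.embeddingUpIntLE a
  haveI : IsIso (((K.op).πTruncGE e.op).f i) := by
    have hj : e.op.f (a - i).toNat = i := by simp [e]; omega
    have hb : ¬ e.op.BoundaryGE (a - i).toNat := by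
      intro hb
      have := (ComplexShape.boundaryLE_embeddingUpIntLE_iff a _).1
        (e.op_boundaryGE_iff.1 hb)
      omega
    haveI := (K.op).isIso_restrictionToTruncGE' e.op (a - i).toNat hb
    dsimp only [HomologicalComplex.πTruncGE]
    rw [e.op.liftExtend_f _ _ hj]
    exact IsIso.comp_isIso' inferInstance (IsIso.comp_isIso' ‹_› inferInstance)
  show IsIso (((K.op).πTruncGE e.op).f i).unop
  infer_instance

theorem exists_truncLE_map (K : CochainComplex A ℤ) (a b : ℤ) (h : a < b) :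
    ∃ q : K.truncLE a ⟶ K.truncLE b, q ≫ K.ιTruncLE b = K.ιTruncLE a := by
  haveI : Mono (K.ιTruncLE b) := inferInstanceAs (Mono (HomologicalComplex.ιTruncLE K _))
  have hk : K.ιTruncLE a ≫ cokernel.π (K.ιTruncLE b) = 0 := by
    ext i
    rcases le_or_gt b i with hi | hi
    · exact ((K.truncLE a).isZero_of_isStrictlyLE a i (by omega)).eq_of_src _ _
    · haveI := isIso_ιTruncLE_f K b i hi
      have h0 : (cokernel.π (K.ιTruncLE b)).f i = 0 := by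
        rw [← cancel_epi ((K.ιTruncLE b).f i), ← comp_f, cokernel.condition, zero_f, comp_zero]
      simp [h0]
  let S := ShortComplex.mk (K.ιTruncLE b) (cokernel.π (K.ιTruncLE b)) (cokernel.condition _)
  have hS : S.Exact := S.exact_of_g_is_cokernel (cokernelIsCokernel _)
  haveI : Mono S.f := ‹_›
  exact ⟨hS.lift _ hk, hS.lift_f _ hk⟩

/-- maps of reindexed opposite complexes -/
def opMap {K L : CochainComplex A ℤ} (φ : K ⟶ L) : CxRes.opCx L ⟶ CxRes.opCx K where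
  f i := (φ.f (-i)).op
  comm' i j _ := by
    show (φ.f (-i)).op ≫ (K.d (-j) (-i)).op = (L.d (-j) (-i)).op ≫ (φ.f (-j)).op
    rw [← op_comp, ← op_comp, φ.comm]

/-- maps of reindexed unopposite complexes -/
def unopMap' {K L : CochainComplex Aᵒᵖ ℤ} (φ : K ⟶ L) : CxRes.unopCx L ⟶ CxRes.unopCx K where
  f i := (φ.f (-i)).unop
  comm' i j _ := by
    show (φ.f (-i)).unop ≫ (K.d (-j) (-i)).unop = (L.d (-j) (-i)).unop ≫ (φ.f (-j)).unop
    rw [← unop_comp, ← unop_comp, φ.comm]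

/-- the unopposite of a biproduct -/
noncomputable def biprodUnopIso (X Y : Aᵒᵖ) : (X ⊞ Y).unop ≅ X.unop ⊞ Y.unop where
  hom := biprod.lift (biprod.inl : X ⟶ X ⊞ Y).unop (biprod.inr : Y ⟶ X ⊞ Y).unop
  inv := biprod.desc (biprod.fst : X ⊞ Y ⟶ X).unop (biprod.snd : X ⊞ Y ⟶ Y).unop
  hom_inv_id := by
    rw [biprod.lift_desc, ← unop_comp, ← unop_comp, ← unop_add, biprod.total]
    rfl
  inv_hom_id := by
    apply biprod.hom_ext' <;> apply biprod.hom_ext <;> simp [← unop_comp]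

theorem exists_directSystem (P : ObjectProperty A) [P.IsClosedUnderIsomorphisms]
    (hP0 : ∃ Z : A, IsZero Z ∧ P Z) (hPsum : ∀ X Y : A, P X → P Y → P (X ⊞ Y))
    (hP : ∀ X : A, ∃ (Y : A) (π : Y ⟶ X), P Y ∧ Epi π) (K : CochainComplex A ℤ) :
    ∃ (Q : ℕ → CochainComplex A ℤ) (ι : ∀ n, Q n ⟶ Q (n + 1)) (π : ∀ n : ℕ, Q n ⟶ K.truncLE (n : ℤ)),
      (∀ n, QuasiIso (π n) ∧ ∀ i, Epi ((π n).f i)) ∧ (∀ n, ∃ b : ℤ, (Q n).IsStrictlyLE b) ∧
      (∀ n i, P ((Q n).X i)) ∧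
      (∀ n i, (∃ r : (Q (n + 1)).X i ⟶ (Q n).X i, (ι n).f i ≫ r = 𝟙 _) ∧ P (cokernel ((ι n).f i))) ∧
      (∀ n : ℕ, π n ≫ K.ιTruncLE (n : ℤ) = ι n ≫ π (n + 1) ≫ K.ιTruncLE ((n + 1 : ℕ) : ℤ)) := by
  choose q hq using fun n : ℕ => exists_truncLE_map K (n : ℤ) ((n + 1 : ℕ) : ℤ) (by omega)
  let I : ObjectProperty Aᵒᵖ := fun X => P X.unop
  haveI : I.IsClosedUnderIsomorphisms := ⟨fun e h => P.prop_of_iso e.unop.symm h⟩
  obtain ⟨Z, hZ, hPZ⟩ := hP0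
  obtain ⟨Q, p, π, hπ, hb, hQ, hp, hc⟩ := exists_inverseSystem' I ⟨op Z, hZ.op, hPZ⟩
    (fun X Y hX hY => P.prop_of_iso (biprodUnopIso X Y).symm (hPsum _ _ hX hY))
    (fun X => by
      obtain ⟨Y, π, hY, hπ⟩ := hP X.unop
      exact ⟨op Y, π.op, hY, inferInstance⟩)
    (fun n => CxRes.opCx (K.truncLE (n : ℤ))) (fun n => opMap (q n))
    (fun n => ⟨-(n : ℤ), (CochainComplex.isStrictlyGE_iff _ _).2 fun i hi =>
      ((K.truncLE (n : ℤ)).isZero_of_isStrictlyLE (n : ℤ) (-i) (by omega)).op⟩)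
  refine ⟨fun n => CxRes.unopCx (Q n), fun n => unopMap' (p n), fun n => CxRes.unopMap (π n), fun n => ?_,
    fun n => ?_, fun n i => hQ n (-i), fun n i => ⟨?_, ?_⟩, fun n => ?_⟩
  · haveI := (hπ n).1
    refine ⟨CxRes.quasiIso_unopMap _, fun i => ?_⟩
    haveI := CxRes.mono_op_f (π n) (-i) i rfl ((hπ n).2 (-i))
    show Epi (((π n).f (-i)).unop ≫ eqToHom _)
    exact epi_comp _ _
  · obtain ⟨a, ha⟩ := hb n
    exact ⟨-a, (CochainComplex.isStrictlyLE_iff _ _).2 fun i hi =>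
      ((Q n).isZero_of_isStrictlyGE a (-i) (by omega)).unop⟩
  · obtain ⟨s, hs⟩ := (hp n (-i)).1
    exact ⟨s.unop, congrArg Quiver.Hom.unop hs⟩
  · exact P.prop_of_iso (cokernelUnopUnop _).symm ((hp n (-i)).2)
  · rw [← hq n, ← Category.assoc, ← Category.assoc (unopMap' (p n))]
    refine congrArg (· ≫ K.ιTruncLE _) ?_
    ext i
    have h := congrArg (fun φ => (HomologicalComplex.Hom.f φ (-i)).unop) (hc n)
    simp only [comp_f, unop_comp] at h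
    show (((π n).f (-i)).unop ≫ eqToHom _) ≫ (q n).f i =
      ((p n).f (-i)).unop ≫ ((π (n + 1)).f (-i)).unop ≫ eqToHom _
    rw [← Category.assoc ((p n).f (-i)).unop, h]
    show _ = (_ ≫ (q n).f (- -i)) ≫ _
    have e : ∀ (a b : ℤ) (ha : a = b), (q n).f a ≫ eqToHom (congrArg (K.truncLE _).X ha) =
        eqToHom (congrArg (K.truncLE _).X ha) ≫ (q n).f b := by
      rintro a _ rfl; simp
    rw [Category.assoc, Category.assoc]
    exact congrArg (_ ≫ ·) (e _ _ (neg_neg i)).symm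

end Groth.Agent.FunInj
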