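import Groth.Agent.FunInj.Basic
import Groth.Agent.CxRes.Basic
import Groth.Agent.KInjRes.Stable

/-!
Special inverse systems of right resolutions of the truncations of a complex.
-/

universe v u

open CategoryTheory CategoryTheory.Limits HomologicalComplex
open scoped ZeroObject

namespace Groth.Agent.FunInj

variable {A : Type u} [Category.{v} A] [Abelian A]

theorem isIso_πTruncGE_f (K : CochainComplex A ℤ) (a i : ℤ) (hi : a < i) :
    IsIso ((K.πTruncGE a).f i) := by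
  let e := ComplexShape.embeddingUpIntGE a
  have hj : e.f (i - a).toNat = i := by simp [e]; omega
  have hb : ¬ e.BoundaryGE (i - a).toNat := by
    rw [ComplexShape.boundaryGE_embeddingUpIntGE_iff]; omega
  haveI := K.isIso_restrictionToTruncGE' e (i - a).toNat hb
  show IsIso ((HomologicalComplex.πTruncGE K e).f i)
  dsimp only [HomologicalComplex.πTruncGE]
  rw [e.liftExtend_f _ _ hj]
  exact IsIso.comp_isIso' inferInstance (IsIso.comp_isIso' ‹_› inferInstance)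

theorem exists_truncGE_map (K : CochainComplex A ℤ) (a b : ℤ) (h : a < b) :
    ∃ q : K.truncGE a ⟶ K.truncGE b, K.πTruncGE a ≫ q = K.πTruncGE b := by
  haveI : Epi (K.πTruncGE a) := inferInstanceAs (Epi (HomologicalComplex.πTruncGE K _))
  have hk : kernel.ι (K.πTruncGE a) ≫ K.πTruncGE b = 0 := by
    ext i
    rcases le_or_gt i a with hi | hi
    · exact ((K.truncGE b).isZero_of_isStrictlyGE b i (by omega)).eq_of_tgt _ _
    · haveI := isIso_πTruncGE_f K a i hi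
      have h0 : (kernel.ι (K.πTruncGE a)).f i = 0 := by
        rw [← cancel_mono ((K.πTruncGE a).f i), ← comp_f, kernel.condition, zero_f, zero_comp]
      simp [h0]
  let S := ShortComplex.mk (kernel.ι (K.πTruncGE a)) (K.πTruncGE a) (kernel.condition _)
  have hS : S.Exact := S.exact_of_f_is_kernel (kernelIsKernel _)
  haveI : Epi S.g := ‹_›
  exact ⟨hS.desc _ hk, hS.g_desc _ hk⟩

/-- projection of the cocone -/
noncomputable def coconeFst {J Q : CochainComplex A ℤ} (q : J ⟶ Q) : cocone q ⟶ J where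
  f n := (biprod.fst : J.X n ⊞ Q.X (n - 1) ⟶ J.X n)
  comm' i j hij := by
    show (biprod.fst : J.X i ⊞ Q.X (i - 1) ⟶ _) ≫ J.d i j =
      biprod.desc (biprod.lift (J.d i j) (qTo q i (j - 1))) (biprod.lift 0 (-Q.d (i - 1) (j - 1))) ≫
        biprod.fst
    apply biprod.hom_ext' <;> simp

variable {R N S : CochainComplex A ℤ} (r : R ⟶ S) (w : N ⟶ S)

/-- the homotopy fibre product -/
noncomputable abbrev hfp : CochainComplex A ℤ := cocone (biprod.desc r w)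

/-- first projection -/
noncomputable abbrev hfst : hfp r w ⟶ R := coconeFst (biprod.desc r w) ≫ biprod.fst

/-- second projection -/
noncomputable abbrev hsnd : hfp r w ⟶ N := coconeFst (biprod.desc r w) ≫ biprod.snd

/-- the degree `i` inclusion of `R ⊞ N ⊞ S` -/
noncomputable def mkEl {W : A} {i : ℤ} (x : W ⟶ R.X i) (y : W ⟶ N.X i) (s : W ⟶ S.X (i - 1)) :
    W ⟶ (hfp r w).X i :=
  biprod.lift (x ≫ (biprod.inl : R ⟶ R ⊞ N).f i + y ≫ (biprod.inr : N ⟶ R ⊞ N).f i) s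

theorem inl_desc_f (i : ℤ) : (biprod.inl : R ⟶ R ⊞ N).f i ≫ (biprod.desc r w).f i = r.f i := by
  rw [← comp_f, biprod.inl_desc]

theorem inr_desc_f (i : ℤ) : (biprod.inr : N ⟶ R ⊞ N).f i ≫ (biprod.desc r w).f i = w.f i := by
  rw [← comp_f, biprod.inr_desc]

theorem total_f (i : ℤ) : (biprod.fst : R ⊞ N ⟶ R).f i ≫ (biprod.inl : R ⟶ R ⊞ N).f i +
    (biprod.snd : R ⊞ N ⟶ N).f i ≫ (biprod.inr : N ⟶ R ⊞ N).f i = 𝟙 _ := by
  rw [← comp_f, ← comp_f, ← add_f_apply, biprod.total]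
  rfl

theorem mkEl_d {W : A} (i j : ℤ) (x : W ⟶ R.X i) (y : W ⟶ N.X i) (s : W ⟶ S.X (i - 1))
    (hij : i + 1 = j) :
    mkEl r w x y s ≫ (hfp r w).d i j =
      mkEl r w (x ≫ R.d i j) (y ≫ N.d i j)
        ((x ≫ r.f i + y ≫ w.f i) ≫ (S.XIsoOfEq (show i = j - 1 by omega)).hom - s ≫ S.d (i - 1) (j - 1)) := by
  show biprod.lift _ _ ≫ biprod.desc (biprod.lift ((R ⊞ N).d i j) (qTo (biprod.desc r w) i (j - 1)))
    (biprod.lift 0 (-S.d (i - 1) (j - 1))) = biprod.lift _ _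
  rw [biprod.lift_desc, qTo_eq' _ i (j - 1) (by omega)]
  apply biprod.hom_ext
  · simp only [Preadditive.add_comp, Category.assoc, biprod.lift_fst, comp_zero, add_zero, Hom.comm]
  · simp only [Preadditive.add_comp, Category.assoc, biprod.lift_snd, Preadditive.comp_neg,
      reassoc_of% (inl_desc_f r w i), reassoc_of% (inr_desc_f r w i), sub_eq_add_neg]

theorem exists_el {W : A} {i : ℤ} (z : W ⟶ (hfp r w).X i) :
    ∃ (x : W ⟶ R.X i) (y : W ⟶ N.X i) (s : W ⟶ S.X (i - 1)), z = mkEl r w x y s ∧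
      x = z ≫ (hfst r w).f i := by
  change W ⟶ (R ⊞ N).X i ⊞ S.X (i - 1) at z
  refine ⟨z ≫ biprod.fst ≫ (biprod.fst : R ⊞ N ⟶ R).f i, z ≫ biprod.fst ≫ (biprod.snd : R ⊞ N ⟶ N).f i,
    z ≫ biprod.snd, ?_, ?_⟩
  · have key : z ≫ biprod.fst = (z ≫ biprod.fst ≫ (biprod.fst : R ⊞ N ⟶ R).f i) ≫ (biprod.inl : R ⟶ R ⊞ N).f i +
        (z ≫ biprod.fst ≫ (biprod.snd : R ⊞ N ⟶ N).f i) ≫ (biprod.inr : N ⟶ R ⊞ N).f i := by
      simp only [Category.assoc, ← Preadditive.comp_add, total_f, Category.comp_id]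
    show z = biprod.lift _ _
    apply biprod.hom_ext
    · rw [biprod.lift_fst]; exact key
    · rw [biprod.lift_snd]
  · show _ = z ≫ biprod.fst ≫ _
    rfl

theorem mkEl_fst {W : A} {i : ℤ} (x : W ⟶ R.X i) (y : W ⟶ N.X i) (s : W ⟶ S.X (i - 1)) :
    mkEl r w x y s ≫ (hfst r w).f i = x := by
  show biprod.lift _ _ ≫ biprod.fst ≫ _ = x
  rw [biprod.lift_fst_assoc, Preadditive.add_comp, Category.assoc, Category.assoc, ← comp_f, ← comp_f,
    biprod.inl_fst, biprod.inr_fst]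
  simp

theorem mkEl_inj {W : A} {i : ℤ} {x x' : W ⟶ R.X i} {y y' : W ⟶ N.X i} {s s' : W ⟶ S.X (i - 1)}
    (h : mkEl r w x y s = mkEl r w x' y' s') : x = x' ∧ y = y' ∧ s = s' := by
  have h1 := congrArg (fun t : W ⟶ (R ⊞ N).X i ⊞ S.X (i - 1) =>
    t ≫ biprod.fst ≫ (biprod.fst : R ⊞ N ⟶ R).f i) h
  have h2 := congrArg (fun t : W ⟶ (R ⊞ N).X i ⊞ S.X (i - 1) =>
    t ≫ biprod.fst ≫ (biprod.snd : R ⊞ N ⟶ N).f i) h
  have h3 := congrArg (fun t : W ⟶ (R ⊞ N).X i ⊞ S.X (i - 1) => t ≫ biprod.snd) h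
  simp [mkEl, ← comp_f] at h1 h2 h3
  exact ⟨h1, h2, h3⟩

theorem quasiIso_hfst [QuasiIso w] : QuasiIso (hfst r w) := by
  refine ⟨fun p => ?_⟩
  obtain ⟨m, rfl⟩ : ∃ m, p = m + 1 := ⟨p - 1, by omega⟩
  rw [quasiIsoAt_iff_isIso_homologyMap]
  refine @isIso_of_mono_of_epi _ _ _ _ _ _
    ((mono_homologyMap_iff_up_to_refinements (hfst r w) m (m + 1) (m + 1 + 1) (by simp) (by simp)).2
      fun W z hz x₀ hx₀ => ?_)
    ((epi_homologyMap_iff_up_to_refinements (hfst r w) m (m + 1) (m + 1 + 1) (by simp) (by simp)).2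
      fun W x hx => ?_)
  · obtain ⟨x, y, s, rfl, -⟩ := exists_el r w z
    rw [mkEl_fst] at hx₀
    rw [mkEl_d r w (m + 1) (m + 1 + 1) x y s rfl] at hz
    have hz0 : mkEl r w (0 : W ⟶ R.X (m + 1 + 1)) 0 0 = 0 := by
      show biprod.lift _ _ = 0
      apply biprod.hom_ext <;> simp <;> exact zero_comp.symm
    obtain ⟨-, hy, hs⟩ := mkEl_inj r w (hz.trans hz0.symm)
    -- the class of `y` dies in `S`
    have hyS : y ≫ w.f (m + 1) =
        (s ≫ (S.XIsoOfEq (show m + 1 - 1 = m by omega)).hom - x₀ ≫ r.f m) ≫ S.d m (m + 1) := by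
      have h := congrArg (· ≫ (S.XIsoOfEq (show m + 1 + 1 - 1 = m + 1 by omega)).hom) hs
      simp [Preadditive.sub_comp] at h
      rw [Preadditive.sub_comp, Category.assoc, Category.assoc, r.comm, ← reassoc_of% hx₀]
      simp only [HomologicalComplex.XIsoOfEq_hom_comp_d]
      rw [sub_eq_zero] at h
      rw [← h]
      abel
    obtain ⟨W₁, π₁, _, y₀, hy₀⟩ := (mono_homologyMap_iff_up_to_refinements w m (m + 1) (m + 1 + 1)
      (by simp) (by simp)).1 inferInstance y hy _ hyS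
    let c : W₁ ⟶ S.X m := π₁ ≫ s ≫ (S.XIsoOfEq (show m + 1 - 1 = m by omega)).hom -
      (π₁ ≫ x₀) ≫ r.f m - y₀ ≫ w.f m
    have hc : c ≫ S.d m (m + 1) = 0 := by
      simp only [c, Preadditive.sub_comp, Category.assoc, Hom.comm, reassoc_of% hy₀.symm]
      have := congrArg (π₁ ≫ ·) hyS
      simp [Preadditive.comp_sub, Preadditive.sub_comp] at this
      simp [this]
    obtain ⟨q, rfl⟩ : ∃ q, m = q + 1 := ⟨m - 1, by omega⟩
    obtain ⟨W₂, π₂, _, y₁, hy₁, t, ht⟩ := (epi_homologyMap_iff_up_to_refinements w q (q + 1) (q + 1 + 1)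
      (by simp) (by simp)).1 inferInstance c hc
    refine ⟨W₂, π₂ ≫ π₁, inferInstance, mkEl r w (π₂ ≫ π₁ ≫ x₀) (π₂ ≫ y₀ + y₁)
      (-t ≫ (S.XIsoOfEq (show q = q + 1 - 1 by omega)).hom), ?_⟩
    rw [mkEl_d r w (q + 1) (q + 1 + 1) _ _ _ rfl]
    show (π₂ ≫ π₁) ≫ biprod.lift _ _ = biprod.lift _ _
    apply biprod.hom_ext
    · simp [Preadditive.add_comp, reassoc_of% hx₀, reassoc_of% hy₀, reassoc_of% hy₁]
    · have ht' := congrArg (· ≫ (S.XIsoOfEq (show q + 1 = q + 1 + 1 - 1 by omega)).hom) ht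
      simp [c, Preadditive.comp_sub, Preadditive.sub_comp, Preadditive.add_comp] at ht'
      simp [Preadditive.add_comp]
      rw [sub_eq_iff_eq_add, sub_eq_iff_eq_add] at ht'
      rw [ht']
      abel
  · obtain ⟨W₁, π₁, _, y, hy, t, ht⟩ := (epi_homologyMap_iff_up_to_refinements w m (m + 1) (m + 1 + 1)
      (by simp) (by simp)).1 inferInstance (x ≫ r.f (m + 1)) (by
        rw [Category.assoc, r.comm, reassoc_of% hx, zero_comp])
    refine ⟨W₁, π₁, inferInstance,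
      mkEl r w (π₁ ≫ x) (-y) (t ≫ (S.XIsoOfEq (show m = m + 1 - 1 by omega)).hom), ?_, 0, ?_⟩
    · rw [mkEl_d r w (m + 1) (m + 1 + 1) _ _ _ rfl]
      show biprod.lift _ _ = 0
      have ht' := congrArg (· ≫ (S.XIsoOfEq (show m + 1 = m + 1 + 1 - 1 by omega)).hom) ht
      simp [Preadditive.add_comp] at ht'
      apply biprod.hom_ext <;>
        simp [hx, hy, Preadditive.add_comp, ht'] <;> exact zero_comp.symm
    · rw [mkEl_fst, zero_comp, add_zero]

theorem isZero_pushout {T : CochainComplex A ℤ} (e : T ⟶ R) (g : T ⟶ N) (i : ℤ)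
    (h1 : IsZero (R.X i)) (h2 : IsZero (N.X i)) : IsZero ((pushout g e).X i) := by
  rw [IsZero.iff_id_eq_zero]
  exact ((IsPushout.of_hasPushout g e).map (eval A (ComplexShape.up ℤ) i)).hom_ext
    (h2.eq_of_src _ _) (h1.eq_of_src _ _)

variable (I : ObjectProperty A) [I.IsClosedUnderIsomorphisms] (hI0 : ∃ Z : A, IsZero Z ∧ I Z)
  (hIprod : ∀ X Y : A, I X → I Y → I (X ⊞ Y))
  (hI : ∀ X : A, ∃ (Y : A) (ι : X ⟶ Y), I Y ∧ Mono ι)

include hI0 hIprod hI in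
/-- The inductive step. -/
theorem exists_step' {T N : CochainComplex A ℤ} (a : ℤ) [T.IsStrictlyGE a] (g : T ⟶ N)
    (hNb : ∃ b, N.IsStrictlyGE b) (hN : ∀ i, I (N.X i)) :
    ∃ (N' : CochainComplex A ℤ) (p : N' ⟶ N) (π : T ⟶ N'),
      π ≫ p = g ∧ QuasiIso π ∧ (∀ i, Mono (π.f i)) ∧ (∃ b, N'.IsStrictlyGE b) ∧ (∀ i, I (N'.X i)) ∧
      ∀ i, (∃ s : N.X i ⟶ N'.X i, s ≫ p.f i = 𝟙 _) ∧ I (kernel (p.f i)) := by
  obtain ⟨b, _⟩ := hNb
  obtain ⟨R, e, hRa, hR, hem, heq⟩ := CxRes.exists_resolution I hI0 hI T a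
  haveI : Mono e := mono_of_mono_f _ hem
  obtain ⟨h1, h2⟩ := MorphismProperty.of_isPushout (P := KInjRes.monoQis A)
    (IsPushout.of_hasPushout g e) ⟨inferInstanceAs (Mono e), heq⟩
  let c := min a b
  haveI : (pushout g e).IsStrictlyGE c := (CochainComplex.isStrictlyGE_iff _ _).2 fun i hi =>
    isZero_pushout e g i (R.isZero_of_isStrictlyGE a i (by omega)) (N.isZero_of_isStrictlyGE b i (by omega))
  obtain ⟨S, j, hSc, hS, hjm, hjq⟩ := CxRes.exists_resolution I hI0 hI (pushout g e) c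
  haveI : QuasiIso (pushout.inl g e) := h2
  let r : R ⟶ S := pushout.inr g e ≫ j
  let w : N ⟶ S := -(pushout.inl g e ≫ j)
  haveI : QuasiIso w := by
    refine ⟨fun i => ?_⟩
    rw [quasiIsoAt_iff_isIso_homologyMap]
    simp only [w]
    rw [show homologyMap (-(pushout.inl g e ≫ j)) i = -homologyMap (pushout.inl g e ≫ j) i from
      (homologyFunctor A _ i).map_neg]
    exact ⟨-CategoryTheory.inv (homologyMap (pushout.inl g e ≫ j) i), by simp, by simp⟩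
  have hw : biprod.lift e g ≫ biprod.desc r w = 0 := by
    simp [r, w, biprod.lift_desc, ← pushout.condition_assoc]
  let π : T ⟶ hfp r w := toCocone (biprod.lift e g) hw
  have hπR : π ≫ hfst r w = e := by
    ext i
    show ((biprod.lift e g).f i ≫ biprod.inl) ≫ biprod.fst ≫ _ = _
    simp [← comp_f]
  have hπN : π ≫ hsnd r w = g := by
    ext i
    show ((biprod.lift e g).f i ≫ biprod.inl) ≫ biprod.fst ≫ _ = _
    simp [← comp_f]
  haveI := quasiIso_hfst r w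
  haveI : QuasiIso (π ≫ hfst r w) := by rw [hπR]; exact heq
  have hq : QuasiIso π := quasiIso_of_comp_right π (hfst r w)
  have hX : ∀ i, I ((hfp r w).X i) := fun i =>
    hIprod _ _ (I.prop_of_iso (biprodXIso R N i).symm (hIprod _ _ (hR i) (hN i))) (hS _)
  refine ⟨hfp r w, hsnd r w, π, hπN, hq, fun i => ?_, ⟨c, ?_⟩, hX, fun i => ⟨?_, ?_⟩⟩
  · haveI := hem i
    haveI : Mono (π.f i ≫ (hfst r w).f i) := by rw [← comp_f, hπR]; infer_instance
    exact mono_of_mono _ ((hfst r w).f i)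
  · refine (CochainComplex.isStrictlyGE_iff _ _).2 fun i hi => ?_
    exact (biprod_isZero_iff _ _).2 ⟨((biprod_isZero_iff _ _).2
      ⟨R.isZero_of_isStrictlyGE a i (by omega), N.isZero_of_isStrictlyGE b i (by omega)⟩).of_iso
        (biprodXIso R N i), S.isZero_of_isStrictlyGE c _ (by omega)⟩
  · refine ⟨(biprod.inr : N ⟶ R ⊞ N).f i ≫ biprod.inl, ?_⟩
    show (_ ≫ biprod.inl) ≫ biprod.fst ≫ _ = _
    simp [← comp_f]
  · show I (kernel ((biprod.fst : (R ⊞ N).X i ⊞ S.X (i - 1) ⟶ _) ≫ (biprod.snd : R ⊞ N ⟶ N).f i))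
    refine I.prop_of_iso ?_ (hIprod _ _ (hR i) (hS (i - 1)))
    refine
      { hom := kernel.lift _ (biprod.desc ((biprod.inl : R ⟶ R ⊞ N).f i ≫ biprod.inl) biprod.inr)
          (by apply biprod.hom_ext' <;> simp [← comp_f])
        inv := kernel.ι _ ≫ biprod.lift (biprod.fst ≫ (biprod.fst : R ⊞ N ⟶ R).f i) biprod.snd
        hom_inv_id := by
          rw [kernel.lift_ι_assoc]
          apply biprod.hom_ext' <;> apply biprod.hom_ext <;> simp [← comp_f]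
        inv_hom_id := ?_ }
    apply equalizer.hom_ext
    have hk := kernel.condition ((biprod.fst : (R ⊞ N).X i ⊞ S.X (i - 1) ⟶ _) ≫ (biprod.snd : R ⊞ N ⟶ N).f i)
    simp only [Category.assoc, kernel.lift_ι, Category.id_comp]
    apply biprod.hom_ext
    · have h := congrArg (fun t => (kernel.ι ((biprod.fst : (R ⊞ N).X i ⊞ S.X (i - 1) ⟶ _) ≫
        (biprod.snd : R ⊞ N ⟶ N).f i) ≫ biprod.fst) ≫ t) (total_f (R := R) (N := N) i)
      simp only [Preadditive.comp_add, Category.assoc, reassoc_of% hk, zero_comp, add_zero] at h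
      simp [biprod.lift_desc]
      exact h.trans (by rw [Category.comp_id])
    · simp [biprod.lift_desc]

include hI0 hIprod hI in
theorem exists_inverseSystem (K : CochainComplex A ℤ) :
    ∃ (Q : ℕ → CochainComplex A ℤ) (p : ∀ n, Q (n + 1) ⟶ Q n) (π : ∀ n : ℕ, K.truncGE (-(n : ℤ)) ⟶ Q n),
      (∀ n, QuasiIso (π n) ∧ ∀ i, Mono ((π n).f i)) ∧ (∀ n, ∃ a : ℤ, (Q n).IsStrictlyGE a) ∧
      (∀ n i, I ((Q n).X i)) ∧
      (∀ n i, (∃ s : (Q n).X i ⟶ (Q (n + 1)).X i, s ≫ (p n).f i = 𝟙 _) ∧ I (kernel ((p n).f i))) ∧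
      (∀ n : ℕ, K.πTruncGE (-((n + 1 : ℕ) : ℤ)) ≫ π (n + 1) ≫ p n = K.πTruncGE (-(n : ℤ)) ≫ π n) := by
  classical
  let St := fun n : ℕ => { X : Σ Q : CochainComplex A ℤ, (K.truncGE (-(n : ℤ)) ⟶ Q) //
    QuasiIso X.2 ∧ (∀ i, Mono (X.2.f i)) ∧ (∃ a : ℤ, X.1.IsStrictlyGE a) ∧ ∀ i, I (X.1.X i) }
  obtain ⟨R₀, e₀, hR₀a, hR₀, hm₀, hq₀⟩ :=
    CxRes.exists_resolution I hI0 hI (K.truncGE (-((0 : ℕ) : ℤ))) (-((0 : ℕ) : ℤ))
  have hstep : ∀ n (s : St n), ∃ (t : St (n + 1)) (p : t.1.1 ⟶ s.1.1),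
      (∀ i, (∃ σ : s.1.1.X i ⟶ t.1.1.X i, σ ≫ p.f i = 𝟙 _) ∧ I (kernel (p.f i))) ∧
      K.πTruncGE (-((n + 1 : ℕ) : ℤ)) ≫ t.1.2 ≫ p = K.πTruncGE (-(n : ℤ)) ≫ s.1.2 := by
    rintro n ⟨⟨N, π⟩, -, -, hb, hN⟩
    obtain ⟨q, hq⟩ := exists_truncGE_map K (-((n + 1 : ℕ) : ℤ)) (-(n : ℤ)) (by omega)
    obtain ⟨N', p, π', h1, h2, h3, h4, h5, h6⟩ :=
      exists_step' I hI0 hIprod hI (-((n + 1 : ℕ) : ℤ)) (q ≫ π) hb hN
    exact ⟨⟨⟨N', π'⟩, h2, h3, h4, h5⟩, p, h6, by rw [h1, reassoc_of% hq]⟩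
  choose next p hp hc using hstep
  let s : ∀ n, St n := fun n =>
    Nat.rec (motive := St) ⟨⟨R₀, e₀⟩, hq₀, hm₀, ⟨_, hR₀a⟩, hR₀⟩ next n
  exact ⟨fun n => (s n).1.1, fun n => p n (s n), fun n => (s n).1.2,
    fun n => ⟨(s n).2.1, (s n).2.2.1⟩, fun n => (s n).2.2.2.1, fun n => (s n).2.2.2.2,
    fun n => hp n (s n), fun n => hc n (s n)⟩

end Groth.Agent.FunInj
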