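import Groth.Agent.FunInj.InvSys

/-!
K-injective resolutions in abelian categories with exact countable products, as limits of towers.
-/

universe v u

open CategoryTheory CategoryTheory.Limits HomologicalComplex
open scoped ZeroObject

namespace Groth.Agent.FunInj

variable {A : Type u} [Category.{v} A] [Abelian A] [HasLimitsOfShape (Discrete ℕ) A]

/-- countably many refinements admit a common refinement -/
theorem exists_common_refinement [HasExactLimitsOfShape (Discrete ℕ) A] {W : A} (V : ℕ → A)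
    (g : ∀ n, V n ⟶ W) (hg : ∀ n, Epi (g n)) :
    ∃ (W' : A) (π : W' ⟶ W) (_ : Epi π) (k : ∀ n, W' ⟶ V n), ∀ n, k n ≫ g n = π := by
  haveI : ∀ j : Discrete ℕ, Epi ((Discrete.natTrans (F := Discrete.functor V)
    (G := Discrete.functor fun _ => W) fun j => g j.as).app j) := fun j => hg j.as
  haveI : Epi (Limits.Pi.map g) := by
    haveI := NatTrans.epi_of_epi_app (Discrete.natTrans (F := Discrete.functor V)
      (G := Discrete.functor fun _ => W) fun j => g j.as)
    haveI : PreservesFiniteColimits (lim : (Discrete ℕ ⥤ A) ⥤ A) :=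
      HasExactLimitsOfShape.preservesFiniteColimits
    haveI : (lim : (Discrete ℕ ⥤ A) ⥤ A).PreservesEpimorphisms :=
      preservesEpimorphisms_of_preservesColimitsOfShape _
    exact (lim : (Discrete ℕ ⥤ A) ⥤ A).map_epi (Discrete.natTrans (F := Discrete.functor V)
      (G := Discrete.functor fun _ => W) fun j => g j.as)
  let δ : W ⟶ ∏ᶜ fun _ : ℕ => W := Pi.lift fun _ => 𝟙 W
  refine ⟨pullback δ (Limits.Pi.map g), pullback.fst _ _, inferInstance,
    fun n => pullback.snd _ _ ≫ Pi.π _ n, fun n => ?_⟩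
  have h := congrArg (· ≫ Pi.π _ n) (pullback.condition (f := δ) (g := Limits.Pi.map g))
  simp [δ] at h
  simpa using h.symm

variable (Q : ℕ → CochainComplex A ℤ) (p : ∀ n, Q (n + 1) ⟶ Q n)

/-- the difference map whose kernel is the limit of the tower -/
noncomputable def towerD (j : ℤ) : (∏ᶜ fun n => (Q n).X j) ⟶ ∏ᶜ fun n => (Q n).X j :=
  Pi.lift fun n => Pi.π (fun n => (Q n).X j) n - Pi.π (fun n => (Q n).X j) (n + 1) ≫ (p n).f j

/-- projection from the limit of the tower, in each degree -/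
noncomputable def towerPr (j : ℤ) (n : ℕ) : kernel (towerD Q p j) ⟶ (Q n).X j :=
  kernel.ι _ ≫ Pi.π (fun n => (Q n).X j) n

theorem towerPr_p (j : ℤ) (n : ℕ) : towerPr Q p j (n + 1) ≫ (p n).f j = towerPr Q p j n := by
  have h : kernel.ι (towerD Q p j) ≫ towerD Q p j ≫ Pi.π (fun n => (Q n).X j) n = 0 := by
    rw [← Category.assoc, kernel.condition, zero_comp]
  rw [show towerD Q p j ≫ Pi.π (fun n => (Q n).X j) n = _ from Pi.lift_π _ n, Preadditive.comp_sub, sub_eq_zero] at h
  simp [towerPr, h]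

variable {Q p}

/-- a compatible family gives an element of the limit -/
noncomputable def towerLift {W : A} (j : ℤ) (x : ∀ n, W ⟶ (Q n).X j)
    (hx : ∀ n, x (n + 1) ≫ (p n).f j = x n) : W ⟶ kernel (towerD Q p j) :=
  kernel.lift _ (Pi.lift x) (by
    refine Pi.hom_ext _ _ fun n => ?_
    simp [towerD, Preadditive.comp_sub, hx n])

theorem towerLift_pr {W : A} (j : ℤ) (x : ∀ n, W ⟶ (Q n).X j)
    (hx : ∀ n, x (n + 1) ≫ (p n).f j = x n) (n : ℕ) : towerLift j x hx ≫ towerPr Q p j n = x n := by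
  simp [towerLift, towerPr]

theorem tower_ext {W : A} {j : ℤ} {a b : W ⟶ kernel (towerD Q p j)}
    (h : ∀ n, a ≫ towerPr Q p j n = b ≫ towerPr Q p j n) : a = b := by
  apply equalizer.hom_ext
  refine Pi.hom_ext _ _ fun n => ?_
  simpa [towerPr] using h n

variable (Q p)

/-- the limit of a tower of complexes -/
noncomputable def towerLim : CochainComplex A ℤ where
  X j := kernel (towerD Q p j)
  d i j := towerLift j (fun n => towerPr Q p i n ≫ (Q n).d i j) fun n => by
    rw [Category.assoc, ← (p n).comm, ← Category.assoc, towerPr_p]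
  shape i j h := tower_ext fun n => by rw [towerLift_pr, (Q n).shape _ _ h, comp_zero, zero_comp]
  d_comp_d' i j k _ _ := tower_ext fun n => by
    rw [Category.assoc, towerLift_pr, reassoc_of% (towerLift_pr (Q := Q) (p := p)), Category.assoc,
      (Q n).d_comp_d, comp_zero, zero_comp]

theorem towerLim_d_pr (i j : ℤ) (n : ℕ) :
    (towerLim Q p).d i j ≫ towerPr Q p j n = towerPr Q p i n ≫ (Q n).d i j :=
  towerLift_pr j (fun n => towerPr Q p i n ≫ (Q n).d i j)
    (fun n => by rw [Category.assoc, ← (p n).comm, ← Category.assoc, towerPr_p]) n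

/-- projection from the limit of the tower -/
noncomputable def towerProj (n : ℕ) : towerLim Q p ⟶ Q n where
  f j := towerPr Q p j n
  comm' i j _ := (towerLim_d_pr Q p i j n).symm

theorem towerProj_p (n : ℕ) : towerProj Q p (n + 1) ≫ p n = towerProj Q p n := by
  ext j
  show towerPr Q p j (n + 1) ≫ _ = towerPr Q p j n
  exact towerPr_p Q p j n

variable {Q p}

/-- a compatible family of complex maps gives a map into the limit -/
noncomputable def towerMap {K : CochainComplex A ℤ} (x : ∀ n, K ⟶ Q n) (hx : ∀ n, x (n + 1) ≫ p n = x n) :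
    K ⟶ towerLim Q p where
  f j := towerLift j (fun n => (x n).f j) fun n => by rw [← comp_f, hx]
  comm' i j _ := tower_ext fun n => by
    have hi : ∀ j n, (x (n + 1)).f j ≫ (p n).f j = (x n).f j := fun j n => by rw [← comp_f, hx]
    refine (Category.assoc _ _ _).trans ?_
    refine (congrArg (towerLift i (fun n => (x n).f i) (hi i) ≫ ·) (towerLim_d_pr Q p i j n)).trans ?_
    refine ((Category.assoc _ _ _).symm.trans
      (congrArg (· ≫ (Q n).d i j) (towerLift_pr i (fun n => (x n).f i) (hi i) n))).trans ?_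
    refine ((x n).comm i j).trans ?_
    exact ((Category.assoc _ _ _).trans
      (congrArg (K.d i j ≫ ·) (towerLift_pr j (fun n => (x n).f j) (hi j) n))).symm

theorem towerMap_proj {K : CochainComplex A ℤ} (x : ∀ n, K ⟶ Q n) (hx : ∀ n, x (n + 1) ≫ p n = x n) (n : ℕ) :
    towerMap x hx ≫ towerProj Q p n = x n := by
  ext j
  exact towerLift_pr j (fun n => (x n).f j) (fun n => by rw [← comp_f, hx]) n

omit [HasLimitsOfShape (Discrete ℕ) A] in
theorem nullHomotopicMap_add {K L : CochainComplex A ℤ} (h k : ∀ i j, K.X i ⟶ L.X j) :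
    Homotopy.nullHomotopicMap (fun i j => h i j + k i j) =
      Homotopy.nullHomotopicMap h + Homotopy.nullHomotopicMap k := by
  ext i
  have e : (fun i j => h i j + k i j) = h + k := rfl
  simp [Homotopy.nullHomotopicMap, e]
  abel

omit [HasLimitsOfShape (Discrete ℕ) A] in
theorem eq_nullHomotopicMap {K L : CochainComplex A ℤ} {f : K ⟶ L} (h : Homotopy f 0) :
    f = Homotopy.nullHomotopicMap h.hom := by
  ext i
  simpa [Homotopy.nullHomotopicMap] using h.comm i

theorem isKInjective_towerLim (hI : ∀ n, ∃ a : ℤ, (Q n).IsStrictlyGE a) (hinj : ∀ n i, Injective ((Q n).X i))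
    (hp : ∀ n i, (∃ s : (Q n).X i ⟶ (Q (n + 1)).X i, s ≫ (p n).f i = 𝟙 _) ∧ Injective (kernel ((p n).f i))) :
    (towerLim Q p).IsKInjective := by
  classical
  refine ⟨fun {M} f hM => ?_⟩
  choose s hs using fun n i => (hp n i).1
  have hQ : ∀ n, (Q n).IsKInjective := fun n => by
    obtain ⟨a, _⟩ := hI n
    haveI := hinj n
    exact CochainComplex.isKInjective_of_injective _ a
  have hker : ∀ n, (kernel (p n)).IsKInjective := fun n => by
    obtain ⟨a, _⟩ := hI (n + 1)
    haveI : ∀ i, Injective ((kernel (p n)).X i) := fun i =>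
      haveI := (hp n i).2
      Injective.of_iso (PreservesKernel.iso (eval A (ComplexShape.up ℤ) i) (p n)).symm ‹_›
    haveI : (kernel (p n)).IsStrictlyGE a := (CochainComplex.isStrictlyGE_iff _ _).2 fun i hi => by
      haveI : Mono ((kernel.ι (p n)).f i) := inferInstanceAs (Mono ((eval A (ComplexShape.up ℤ) i).map _))
      exact ((Q (n + 1)).isZero_of_isStrictlyGE a i hi).of_mono ((kernel.ι (p n)).f i)
    exact CochainComplex.isKInjective_of_injective _ a
  let St := fun n : ℕ => { h : ∀ i j, M.X i ⟶ (Q n).X j //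
    (∀ i j, ¬(ComplexShape.up ℤ).Rel j i → h i j = 0) ∧ f ≫ towerProj Q p n = Homotopy.nullHomotopicMap h }
  have hstep : ∀ n (h : St n), ∃ h' : St (n + 1), ∀ i j, h'.1 i j ≫ (p n).f j = h.1 i j := by
    rintro n ⟨h, hz, hh⟩
    let H : ∀ i j, M.X i ⟶ (Q (n + 1)).X j := fun i j => h i j ≫ s n j
    have hHp : ∀ i j, H i j ≫ (p n).f j = h i j := fun i j => by simp [H, hs]
    have hg : (f ≫ towerProj Q p (n + 1) - Homotopy.nullHomotopicMap H) ≫ p n = 0 := by
      rw [Preadditive.sub_comp, Category.assoc, towerProj_p, Homotopy.nullHomotopicMap_comp, hh, sub_eq_zero]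
      exact congrArg Homotopy.nullHomotopicMap (funext fun i => funext fun j => (hHp i j).symm)
    haveI := hker n
    let k := CochainComplex.IsKInjective.homotopyZero (kernel.lift (p n) _ hg) hM
    refine ⟨⟨fun i j => H i j + k.hom i j ≫ (kernel.ι (p n)).f j, fun i j hij => ?_, ?_⟩, fun i j => ?_⟩
    · simp [H, hz i j hij, k.zero i j hij]
    · rw [nullHomotopicMap_add, ← Homotopy.nullHomotopicMap_comp, ← eq_nullHomotopicMap k, kernel.lift_ι]
      abel
    · simp [Preadditive.add_comp, hHp, ← comp_f]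
  choose next hnext using hstep
  haveI := hQ 0
  let k₀ := CochainComplex.IsKInjective.homotopyZero (f ≫ towerProj Q p 0) hM
  let S : ∀ n, St n := fun n => Nat.rec (motive := St) ⟨k₀.hom, k₀.zero, eq_nullHomotopicMap k₀⟩ next n
  have hS : ∀ n i j, (S (n + 1)).1 i j ≫ (p n).f j = (S n).1 i j := fun n => hnext n (S n)
  let H : ∀ i j, M.X i ⟶ (towerLim Q p).X j := fun i j => towerLift j (fun n => (S n).1 i j) fun n => hS n i j
  have hf : f = Homotopy.nullHomotopicMap H := by
    ext i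
    refine tower_ext fun n => ?_
    have e : Homotopy.nullHomotopicMap H ≫ towerProj Q p n = f ≫ towerProj Q p n := by
      rw [Homotopy.nullHomotopicMap_comp, (S n).2.2]
      exact congrArg Homotopy.nullHomotopicMap (funext fun i => funext fun j => towerLift_pr _ _ _ n)
    exact (congrArg (fun t => Hom.f t i) e).symm
  exact ⟨(Homotopy.ofEq hf).trans (Homotopy.nullHomotopy H fun i j hij => tower_ext fun n => by
    show towerLift _ _ _ ≫ _ = _
    rw [towerLift_pr, (S n).2.1 i j hij]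
    exact zero_comp.symm)⟩

omit [HasLimitsOfShape (Discrete ℕ) A] in
theorem map_compat {K : CochainComplex A ℤ} (ρ : ∀ n, K ⟶ Q n) (hρ : ∀ n, ρ (n + 1) ≫ p n = ρ n) {a b : ℕ}
    (h : a ≤ b) : ρ b ≫ (Functor.ofOpSequence p).map (homOfLE h).op = ρ a := by
  induction h with
  | refl => exact (congrArg (ρ a ≫ ·) ((Functor.ofOpSequence p).map_id _)).trans (Category.comp_id _)
  | @step m hm ih =>
    rw [show (homOfLE (Nat.le.step hm)).op = (homOfLE (Nat.le_succ m)).op ≫ (homOfLE hm).op from rfl,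
      Functor.map_comp, Functor.ofOpSequence_map_homOfLE_succ]
    exact (Category.assoc _ _ _).symm.trans ((congrArg (· ≫ _) (hρ m)).trans ih)

theorem quasiIso_towerMap [HasExactLimitsOfShape (Discrete ℕ) A] {K : CochainComplex A ℤ} (ρ : ∀ n, K ⟶ Q n)
    (hρ : ∀ n, ρ (n + 1) ≫ p n = ρ n) (hs : ∀ n i, ∃ s : (Q n).X i ⟶ (Q (n + 1)).X i, s ≫ (p n).f i = 𝟙 _)
    (hq : ∀ j : ℤ, ∃ N : ℕ, ∀ n, N ≤ n → QuasiIsoAt (ρ n) j) :
    QuasiIso (towerMap ρ hρ) := by
  choose s hs using hs
  refine ⟨fun i => ?_⟩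
  obtain ⟨q, rfl⟩ : ∃ q, i = q + 1 + 1 := ⟨i - 2, by omega⟩
  obtain ⟨N₁, hN₁⟩ := hq (q + 1 + 1)
  obtain ⟨N₂, hN₂⟩ := hq (q + 1)
  let N := max N₁ N₂
  have hN : ∀ k, IsIso (homologyMap (ρ (N + k)) (q + 1 + 1)) := fun k =>
    (quasiIsoAt_iff_isIso_homologyMap _ _).1 (hN₁ _ (by omega))
  have hN' : ∀ k, IsIso (homologyMap (ρ (N + k)) (q + 1)) := fun k =>
    (quasiIsoAt_iff_isIso_homologyMap _ _).1 (hN₂ _ (by omega))
  rw [quasiIsoAt_iff_isIso_homologyMap]
  refine @isIso_of_mono_of_epi _ _ _ _ _ _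
    ((mono_homologyMap_iff_up_to_refinements _ (q + 1) (q + 1 + 1) (q + 1 + 1 + 1) (by simp) (by simp)).2
      fun W z hz y hy => ?_)
    ((epi_homologyMap_iff_up_to_refinements _ (q + 1) (q + 1 + 1) (q + 1 + 1 + 1) (by simp) (by simp)).2
      fun W x hx => ?_)
  · haveI := hN 0
    refine (mono_homologyMap_iff_up_to_refinements (ρ (N + 0)) (q + 1) (q + 1 + 1) (q + 1 + 1 + 1)
      (by simp) (by simp)).1 inferInstance z hz (y ≫ (towerProj Q p (N + 0)).f (q + 1)) ?_
    rw [← towerMap_proj ρ hρ, comp_f, reassoc_of% hy, Category.assoc, (towerProj Q p (N + 0)).comm]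
  · let x' : ∀ k : ℕ, W ⟶ (Q (N + k)).X (q + 1 + 1) := fun k => x ≫ (towerProj Q p (N + k)).f (q + 1 + 1)
    have hx' : ∀ k, x' k ≫ (Q (N + k)).d (q + 1 + 1) (q + 1 + 1 + 1) = 0 := fun k => by
      simp only [x', Category.assoc, Hom.comm, reassoc_of% hx, zero_comp]
    have hxp : ∀ k, x' (k + 1) ≫ (p (N + k)).f _ = x' k := fun k => by
      show (x ≫ _) ≫ _ = x ≫ _
      rw [Category.assoc, ← comp_f]
      exact congrArg (fun t => x ≫ Hom.f t _) (towerProj_p Q p (N + k))
    have hρp : ∀ k j, (ρ (N + (k + 1))).f j ≫ (p (N + k)).f j = (ρ (N + k)).f j := fun k j => by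
      rw [← comp_f]
      exact congrArg (fun t => Hom.f t j) (hρ (N + k))
    -- first refinement
    have h1 := fun k : ℕ =>
      haveI := hN k
      (epi_homologyMap_iff_up_to_refinements (ρ (N + k)) (q + 1) (q + 1 + 1) (q + 1 + 1 + 1) (by simp) (by simp)).1
        inferInstance (x' k) (hx' k)
    choose V₁ α₁ hα₁ z hz y hy using h1
    obtain ⟨W₁, π₁, _, g₁, hg₁⟩ := exists_common_refinement V₁ α₁ hα₁
    let z₁ := fun k => g₁ k ≫ z k
    let y₁ := fun k => g₁ k ≫ y k
    have e1 : ∀ k, π₁ ≫ x' k = z₁ k ≫ (ρ (N + k)).f _ + y₁ k ≫ (Q (N + k)).d (q + 1) (q + 1 + 1) := fun k => by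
      simp [z₁, y₁, ← hg₁ k, hy k]
    have e1' : ∀ k, z₁ k ≫ K.d (q + 1 + 1) (q + 1 + 1 + 1) = 0 := fun k => by simp [z₁, hz k]
    -- second refinement
    have h2 : ∀ k, ∃ (V : A) (α : V ⟶ W₁) (_ : Epi α) (w : V ⟶ K.X (q + 1)),
        α ≫ (z₁ (k + 1) - z₁ k) = w ≫ K.d (q + 1) (q + 1 + 1) := fun k => by
      haveI := hN k
      refine (mono_homologyMap_iff_up_to_refinements (ρ (N + k)) (q + 1) (q + 1 + 1) (q + 1 + 1 + 1)
        (by simp) (by simp)).1 inferInstance _ (by simp [Preadditive.sub_comp, e1'])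
        (y₁ k - y₁ (k + 1) ≫ (p (N + k)).f (q + 1)) ?_
      have a := e1 k
      have b := congrArg (· ≫ (p (N + k)).f _) (e1 (k + 1))
      simp only [Category.assoc, Preadditive.add_comp, hxp, hρp, ← (p (N + k)).comm] at b
      rw [a] at b
      simp only [Preadditive.sub_comp, Category.assoc]
      rw [sub_eq_sub_iff_add_eq_add, (p (N + k)).comm]
      exact b.symm.trans (add_comm _ _)
    choose V₂ α₂ hα₂ w hw using h2
    obtain ⟨W₂, π₂, _, g₂, hg₂⟩ := exists_common_refinement V₂ α₂ hα₂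
    let S := fun k => ∑ l ∈ Finset.range k, g₂ l ≫ w l
    have hS : ∀ k, S k ≫ K.d (q + 1) (q + 1 + 1) = π₂ ≫ z₁ k - π₂ ≫ z₁ 0 := fun k => by
      induction k with
      | zero => simp [S]
      | succ k ih =>
        have : S (k + 1) = S k + g₂ k ≫ w k := Finset.sum_range_succ _ _
        rw [this, Preadditive.add_comp, ih, Category.assoc, ← hw k, reassoc_of% (hg₂ k),
          Preadditive.comp_sub]
        abel
    let y₂ := fun k => π₂ ≫ y₁ k + S k ≫ (ρ (N + k)).f (q + 1)
    have e2 : ∀ k, y₂ k ≫ (Q (N + k)).d (q + 1) (q + 1 + 1) =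
        π₂ ≫ π₁ ≫ x' k - π₂ ≫ z₁ 0 ≫ (ρ (N + k)).f _ := fun k => by
      simp only [y₂, Preadditive.add_comp, Category.assoc, (ρ (N + k)).comm, e1 k, Preadditive.comp_add]
      rw [← Category.assoc (S k), hS, Preadditive.sub_comp]
      simp only [Category.assoc]
      abel
    -- third refinement
    have h3 : ∀ k, ∃ (V : A) (α : V ⟶ W₂) (_ : Epi α) (u : V ⟶ K.X (q + 1))
        (_ : u ≫ K.d (q + 1) (q + 1 + 1) = 0) (t : V ⟶ (Q (N + k)).X q),
        α ≫ (y₂ (k + 1) ≫ (p (N + k)).f (q + 1) - y₂ k) = u ≫ (ρ (N + k)).f _ + t ≫ (Q (N + k)).d q (q + 1) :=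
      fun k => by
      haveI := hN' k
      refine (epi_homologyMap_iff_up_to_refinements (ρ (N + k)) q (q + 1) (q + 1 + 1) (by simp) (by simp)).1
        inferInstance _ ?_
      rw [Preadditive.sub_comp, Category.assoc, (p (N + k)).comm]
      refine (congrArg (· - _) ((Category.assoc _ _ _).symm.trans (congrArg (· ≫ _) (e2 (k + 1))))).trans ?_
      rw [e2 k]
      simp only [Preadditive.sub_comp, Category.assoc, hρp, hxp, sub_self]
    choose V₃ α₃ hα₃ u hu t ht using h3
    obtain ⟨W₃, π₃, _, g₃, hg₃⟩ := exists_common_refinement V₃ α₃ hα₃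
    let U := fun k => ∑ l ∈ Finset.range k, g₃ l ≫ u l
    let e : ∀ k, W₃ ⟶ (Q (N + k)).X q := fun k =>
      Nat.rec (motive := fun k => W₃ ⟶ (Q (N + k)).X q) 0 (fun k r => (r - g₃ k ≫ t k) ≫ s (N + k) q) k
    have he : ∀ k, e (k + 1) ≫ (p (N + k)).f q = e k - g₃ k ≫ t k := fun k => by
      show ((e k - g₃ k ≫ t k) ≫ s (N + k) q) ≫ _ = _
      rw [Category.assoc, hs, Category.comp_id]
    let y₃ := fun k => π₃ ≫ y₂ k - U k ≫ (ρ (N + k)).f (q + 1) + e k ≫ (Q (N + k)).d q (q + 1)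
    have hy₃ : ∀ k, y₃ (k + 1) ≫ (p (N + k)).f (q + 1) = y₃ k := fun k => by
      have hk := congrArg (g₃ k ≫ ·) (ht k)
      simp only [← Category.assoc (g₃ k) (α₃ k), hg₃, Preadditive.comp_add, Preadditive.comp_sub] at hk
      rw [sub_eq_iff_eq_add] at hk
      have : U (k + 1) = U k + g₃ k ≫ u k := Finset.sum_range_succ _ _
      have hed : e (k + 1) ≫ (Q (N + (k + 1))).d q (q + 1) ≫ (p (N + k)).f (q + 1) =
          e k ≫ (Q (N + k)).d q (q + 1) - g₃ k ≫ t k ≫ (Q (N + k)).d q (q + 1) := by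
        refine (congrArg (e (k + 1) ≫ ·) ((p (N + k)).comm q (q + 1)).symm).trans ?_
        rw [← Category.assoc (g₃ k), ← Preadditive.sub_comp, ← he k]
        exact (Category.assoc _ _ _).symm
      simp only [y₃, this, Preadditive.add_comp, Preadditive.sub_comp, Category.assoc, hρp, hk, hed]
      abel
    have e3 : ∀ k, y₃ k ≫ (Q (N + k)).d (q + 1) (q + 1 + 1) =
        π₃ ≫ π₂ ≫ π₁ ≫ x' k - π₃ ≫ π₂ ≫ z₁ 0 ≫ (ρ (N + k)).f _ := fun k => by
      have hU : U k ≫ K.d (q + 1) (q + 1 + 1) = 0 := by simp [U, Preadditive.sum_comp, hu]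
      simp [y₃, Preadditive.add_comp, Preadditive.sub_comp, e2, reassoc_of% hU, Preadditive.comp_sub]
    -- assemble
    let c : ∀ n, Q (N + n) ⟶ Q n := fun n => (Functor.ofOpSequence p).map (homOfLE (Nat.le_add_left n N)).op
    have hc : ∀ n, c (n + 1) ≫ p n = p (N + n) ≫ c n := fun n => by
      rw [← Functor.ofOpSequence_map_homOfLE_succ p n, ← Functor.ofOpSequence_map_homOfLE_succ p (N + n)]
      exact ((Functor.ofOpSequence p).map_comp _ _).symm.trans
        ((congrArg _ (Subsingleton.elim _ _)).trans ((Functor.ofOpSequence p).map_comp _ _))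
    have hcρ : ∀ n, ρ (N + n) ≫ c n = ρ n := fun n => map_compat ρ hρ _
    have hcP : ∀ n, towerProj Q p (N + n) ≫ c n = towerProj Q p n := fun n =>
      map_compat (towerProj Q p) (towerProj_p Q p) _
    refine ⟨W₃, π₃ ≫ π₂ ≫ π₁, inferInstance, π₃ ≫ π₂ ≫ z₁ 0, by simp [e1'],
      towerLift (q + 1) (fun n => y₃ n ≫ (c n).f (q + 1)) (fun n => ?_), tower_ext fun n => ?_⟩
    · rw [Category.assoc, ← comp_f, hc n, comp_f, reassoc_of% (hy₃ n)]
    · have hd := congrArg (· ≫ (c n).f (q + 1 + 1)) (e3 n)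
      simp only [Category.assoc, Preadditive.sub_comp, ← (c n).comm, x'] at hd
      rw [← comp_f (ρ (N + n)), hcρ, ← comp_f (towerProj Q p (N + n)), hcP] at hd
      have a1 : (towerMap ρ hρ).f (q + 1 + 1) ≫ towerPr Q p (q + 1 + 1) n = (ρ n).f (q + 1 + 1) :=
        congrArg (fun t => Hom.f t (q + 1 + 1)) (towerMap_proj ρ hρ n)
      have hy' : ∀ n, (y₃ (n + 1) ≫ (c (n + 1)).f (q + 1)) ≫ (p n).f (q + 1) = y₃ n ≫ (c n).f (q + 1) :=
        fun n => by rw [Category.assoc, ← comp_f, hc n, comp_f, reassoc_of% (hy₃ n)]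
      refine (Category.assoc _ _ _).trans (Eq.trans ?_ ((Preadditive.add_comp _ _ _ _ _ _).trans (congrArg₂ (· + ·)
        ((Category.assoc _ _ _).trans (congrArg (_ ≫ ·) a1))
        ((Category.assoc _ _ _).trans ((congrArg (_ ≫ ·) (towerLim_d_pr Q p _ _ n)).trans
          ((Category.assoc _ _ _).symm.trans (congrArg (· ≫ _) (towerLift_pr (q + 1) _ hy' n))))))).symm)
      simp only [Category.assoc]
      refine Eq.trans ?_ (congrArg (_ + ·) hd).symm
      show π₃ ≫ π₂ ≫ π₁ ≫ x ≫ (towerProj Q p n).f _ = _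
      abel

theorem exists_kInjective_resolution [EnoughInjectives A] [HasExactLimitsOfShape (Discrete ℕ) A]
    (K : CochainComplex A ℤ) : ∃ (I : CochainComplex A ℤ) (f : K ⟶ I), I.IsKInjective ∧ QuasiIso f := by
  let P : ObjectProperty A := fun X => Injective X
  haveI : P.IsClosedUnderIsomorphisms := ⟨fun e h => Injective.of_iso e h⟩
  obtain ⟨Q, p, π, hπ, hQb, hQ, hp, hc⟩ := exists_inverseSystem P
    ⟨0, isZero_zero A, (isZero_zero A).injective⟩ (fun X Y hX hY => by
      haveI : Injective X := hX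
      haveI : Injective Y := hY
      exact (inferInstance : Injective (X ⊞ Y)))
    (fun X => ⟨Injective.under X, Injective.ι X, (inferInstance : Injective _), inferInstance⟩) K
  let ρ : ∀ n, K ⟶ Q n := fun n => K.πTruncGE (-(n : ℤ)) ≫ π n
  refine ⟨towerLim Q p, towerMap ρ (fun n => (Category.assoc _ _ _).trans (hc n)),
    isKInjective_towerLim hQb hQ hp, quasiIso_towerMap ρ _ (fun n i => (hp n i).1) fun j =>
      ⟨(-j).toNat, fun n hn => ?_⟩⟩
  haveI := CochainComplex.quasiIsoAt_πTruncGE K (-(n : ℤ)) j (by omega)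
  haveI := (hπ n).1
  exact quasiIsoAt_comp _ _ j

end Groth.Agent.FunInj
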